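import Groth.Agent.Lib.Lichtenbaum22.Vanish
import Groth.Agent.S8853
import Groth.Agent.Lib.Nagata6.Noetherian
import Groth.Agent.Lib.Nagata6.Proper
import Groth.Agent.Lib.Nagata6.Common
import Groth.Agent.Lib.LocImm8.Common
import Groth.Agent.Lib.FgSupport6.Exists
import Groth.Agent.Lib.DimFin29.Basic
import Groth.Agent.Lib.BlowUp.Exists

/-! # Lichtenbaum: vanishing of top cohomology without proper components of top dimension -/

set_option autoImplicit false
set_option backward.isDefEq.respectTransparency false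
set_option linter.style.haveILetI false
universe u

open CategoryTheory CategoryTheory.Limits AlgebraicGeometry TopologicalSpace Opposite

noncomputable section

namespace GrothLib.Lichtenbaum22

/-- A space of dimension `≥ d` has an irreducible closed subset of dimension `≥ d`. -/
theorem exists_irreducible_dim {T : Type u} [TopologicalSpace T] (d : ℕ)
    (h : (d : WithBot ℕ∞) ≤ topologicalKrullDim T) :
    ∃ C : IrreducibleCloseds T, (d : WithBot ℕ∞) ≤ topologicalKrullDim (C : Set T) := by
  obtain ⟨l, hl⟩ := Order.le_krullDim_iff.1 h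
  refine ⟨l.last, ?_⟩
  have hsub : ∀ j, (l j : Set T) ⊆ (l.last : Set T) := fun j =>
    SetLike.coe_subset_coe.2 (show l j ≤ l.last from l.monotone (Fin.le_last j))
  let e : ∀ j, IrreducibleCloseds (l.last : Set T) := fun j =>
    { carrier := Subtype.val ⁻¹' (l j : Set T)
      isIrreducible' := by
        refine ⟨?_, fun O₁ O₂ h₁ h₂ ⟨a, ha, ha₁⟩ ⟨b, hb, hb₂⟩ => ?_⟩
        · obtain ⟨x, hx⟩ := (l j).isIrreducible.1
          exact ⟨⟨x, hsub j hx⟩, hx⟩
        · obtain ⟨O₁', ho₁, rfl⟩ := isOpen_induced_iff.1 h₁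
          obtain ⟨O₂', ho₂, rfl⟩ := isOpen_induced_iff.1 h₂
          obtain ⟨x, hx, hx'⟩ := (l j).isIrreducible.2 O₁' O₂' ho₁ ho₂ ⟨a.1, ha, ha₁⟩ ⟨b.1, hb, hb₂⟩
          exact ⟨⟨x, hsub j hx⟩, hx, hx'⟩
      isClosed' := (l j).isClosed.preimage continuous_subtype_val }
  let l' : LTSeries (IrreducibleCloseds (l.last : Set T)) :=
    { length := l.length
      toFun := e
      step := fun j => by
        have hlt : l j.castSucc < l j.succ := l.step j
        show e j.castSucc < e j.succ
        refine lt_iff_le_not_ge.2 ⟨fun x (hx : x.1 ∈ l j.castSucc) => hlt.le hx, fun hge => hlt.not_ge ?_⟩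
        intro y hy
        exact hge (show (⟨y, hsub _ hy⟩ : (l.last : Set T)) ∈ e j.succ from hy) }
  rw [← hl]
  exact Order.LTSeries.length_le_krullDim l'

/-- An open in a proper scheme with divisorial boundary. -/
theorem exists_boundary_divisor {k : Type u} [Field k] (U : Scheme.{u}) (f : U ⟶ Spec (CommRingCat.of k))
    [IsSeparated f] [LocallyOfFiniteType f] [QuasiCompact f] :
    ∃ (X : Scheme.{u}) (p : X ⟶ Spec (CommRingCat.of k)) (v : U ⟶ X), IsProper p ∧ IsOpenImmersion v ∧
      IsAffineHom v ∧ v ≫ p = f ∧ topologicalKrullDim X = topologicalKrullDim U ∧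
      ∀ x ∉ Set.range v, ∃ (W : X.affineOpens) (g : Γ(X, W.1)), x ∈ W.1 ∧
        (X.basicOpen g : Set X) = (W.1 : Set X) ∩ Set.range v := by
  obtain ⟨Y, j, p, hj, hjq, hp, hjp⟩ := Nagata6.exists_compactification_of_noetherian f
  haveI := hj
  haveI := hp
  haveI : IsLocallyNoetherian Y := LocallyOfFiniteType.isLocallyNoetherian p
  haveI : CompactSpace Y := QuasiCompact.compactSpace_of_compactSpace p
  haveI : IsNoetherian Y := {}
  obtain ⟨Q, hQ, hQs⟩ := FgSupport6.exists_fg_support_eq j.opensRange (NoetherianSpace.isCompact _)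
  have hQs' : (Q.support : Set Y) = (Set.range j)ᶜ := hQs
  obtain ⟨X, b, hb⟩ := GrothLib.BlowUp.exists_isBlowUp Y Q
  haveI : IsProper b := Nagata6.isProper_of_isBlowUp (show BlowUp.IsFiniteTypeIdeal Q from hQ) hb
  have hd : Disjoint (Q.support : Set Y) (Set.range j) := by
    rw [hQs']
    exact disjoint_compl_left
  obtain ⟨v, hv, hvb, hvr⟩ := Nagata6.exists_lift_off hb j hd
  haveI := hv
  have hrange : ∀ x : X, x ∈ Set.range v ↔ x ∉ (Q.comap b).support := by
    intro x
    have hc : x ∈ ((Q.comap b).support : Set X) ↔ b x ∈ (Q.support : Set Y) := by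
      rw [Scheme.IdealSheafData.support_comap]
      rfl
    constructor
    · rintro ⟨z, rfl⟩ hmem
      refine Set.disjoint_left.1 hd (hc.1 hmem) ⟨z, ?_⟩
      rw [← Scheme.Hom.comp_apply, hvb]
    · intro hx
      refine hvr x ?_
      by_contra hxj
      exact hx (hc.2 (by rw [hQs']; exact hxj))
  have hdiv : ∀ x : X, ∃ W : X.affineOpens, x ∈ W.1 ∧ ∃ g : Γ(X, W.1), (Q.comap b).ideal W = Ideal.span {g} := by
    intro x
    obtain ⟨W, hxW, g, -, hg⟩ := hb.1 x
    exact ⟨W, hxW, g, hg⟩
  have hopen : v.opensRange = (Q.comap b).support.compl := TopologicalSpace.Opens.ext (Set.ext hrange)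
  haveI : IsAffineHom v.opensRange.ι := by
    rw [hopen]
    exact Groth.Agent.S8853.result (Q.comap b) fun x _ => hdiv x
  haveI : IsAffineHom v := by
    rw [← v.isoOpensRange_hom_ι]
    infer_instance
  refine ⟨X, b ≫ p, v, inferInstance, hv, inferInstance, by rw [reassoc_of% hvb, hjp], ?_, fun x hx => ?_⟩
  · have hdense : DenseRange v := by
      have h := LocImm8.dense_range_lift hb j hQs' v hvb (𝟙 U) (Function.surjective_id.denseRange)
      rwa [Category.id_comp] at h
    rw [← DimFin29.topologicalKrullDim_dense (b ≫ p) (U := v.opensRange) hdense]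
    exact (IsHomeomorph.topologicalKrullDim_eq _ v.isOpenEmbedding.isEmbedding.toHomeomorph.isHomeomorph).symm
  · obtain ⟨W, hxW, t, ht⟩ := hdiv x
    refine ⟨W, t, hxW, Set.ext fun y => ⟨fun hy => ⟨X.basicOpen_le t hy, (hrange y).2 ?_⟩, fun hy => ?_⟩⟩
    · exact Set.disjoint_left.mp
        (GrothLib.BlowUp.disjoint_basicOpen_support (ht.ge (Ideal.mem_span_singleton_self t))) hy
    · by_contra hb'
      refine (hrange y).1 hy.2 ((Scheme.IdealSheafData.mem_support_iff_of_mem hy.1).mpr ?_)
      rw [Scheme.mem_zeroLocus_iff]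
      intro z hz
      obtain ⟨c, rfl⟩ := Ideal.mem_span_singleton.mp (ht.le hz)
      rw [Scheme.basicOpen_mul]
      exact fun h' => hb' h'.1

/-- **Lichtenbaum vanishing.** -/
theorem subsingleton_HH_of_no_proper {k : Type u} [Field k] (U : Scheme.{u}) (f : U ⟶ Spec (CommRingCat.of k))
    [IsSeparated f] [LocallyOfFiniteType f] [QuasiCompact f] (d : ℕ) (hU : topologicalKrullDim U ≤ (d : WithBot ℕ∞))
    (hno : ∀ (Z : Scheme.{u}) (i : Z ⟶ U) [IsClosedImmersion i] [IrreducibleSpace Z],
      topologicalKrullDim Z = (d : WithBot ℕ∞) → ¬ IsProper (i ≫ f))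
    (F : U.Modules) [F.IsQuasicoherent] : Subsingleton (Coh.HH U F d) := by
  obtain ⟨X, p, v, hp, hv, hva, hvp, hdim, hloc⟩ := exists_boundary_divisor U f
  haveI := hv
  haveI := hva
  letI : X.Over (Spec (CommRingCat.of k)) := ⟨p⟩
  haveI : IsProper (X ↘ Spec (CommRingCat.of k)) := hp
  have hX : topologicalKrullDim X ≤ (d : WithBot ℕ∞) := by rw [hdim]; exact hU
  refine subsingleton_HH_top (k := k) v d hX hloc (fun Z hZ hZr => ?_) F
  refine lt_of_le_of_ne ((topologicalKrullDim_subspace_le X Z).trans hX) fun heq => ?_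
  obtain ⟨C, hC⟩ := exists_irreducible_dim (T := Z) d heq.ge
  let C' : Set U := v ⁻¹' (Subtype.val '' (C : Set Z))
  have hCc : IsClosed (Subtype.val '' (C : Set Z)) := hZ.isClosedEmbedding_subtypeVal.isClosedMap _ C.isClosed
  have hCr : Subtype.val '' (C : Set Z) ⊆ Set.range v := by
    rintro _ ⟨z, -, rfl⟩
    exact hZr z.2
  have hC'c : IsClosed C' := hCc.preimage v.continuous
  have himg : v '' C' = Subtype.val '' (C : Set Z) := Set.image_preimage_eq_of_subset hCr
  have hC'i : IsIrreducible C' := by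
    obtain ⟨z, hz⟩ := C.isIrreducible.nonempty
    obtain ⟨w, hw⟩ := hZr z.2
    exact ⟨⟨w, z, hz, hw.symm⟩,
      (C.isIrreducible.image _ continuous_subtype_val.continuousOn).2.preimage v.isOpenEmbedding⟩
  let I : U.IdealSheafData := Scheme.IdealSheafData.vanishingIdeal ⟨C', hC'c⟩
  have hr : Set.range I.subschemeι = C' := RedSub.range_subschemeι_vanishingIdeal _
  haveI : IrreducibleSpace I.subscheme := by
    haveI : IrreducibleSpace (Set.range I.subschemeι) := Subtype.irreducibleSpace (by rw [hr]; exact hC'i)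
    exact (I.subschemeι.isEmbedding.toHomeomorph).symm.surjective.irreducibleSpace
      (I.subschemeι.isEmbedding.toHomeomorph).symm.continuous
  have hemb : Topology.IsEmbedding fun c : I.subscheme => v (I.subschemeι c) :=
    v.isOpenEmbedding.isEmbedding.comp I.subschemeι.isEmbedding
  have hrr : Set.range (fun c : I.subscheme => v (I.subschemeι c)) = Subtype.val '' (C : Set Z) := by
    rw [← himg, ← hr, ← Set.range_comp]
    rfl
  have hdimC : (d : WithBot ℕ∞) ≤ topologicalKrullDim I.subscheme := by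
    refine hC.trans ?_
    rw [IsHomeomorph.topologicalKrullDim_eq _ hemb.toHomeomorph.isHomeomorph, hrr]
    exact IsHomeomorph.topologicalKrullDim_eq _
      ((Topology.IsEmbedding.subtypeVal (p := fun x => x ∈ Z)).homeomorphImage (C : Set Z)).isHomeomorph |>.le
  refine hno I.subscheme I.subschemeι (le_antisymm ?_ hdimC) ?_
  · exact (I.subschemeι.isEmbedding.isInducing.topologicalKrullDim_le).trans hU
  · haveI : IsClosedImmersion (I.subschemeι ≫ v) := by
      refine IsClosedImmersion.of_isPreimmersion _ ?_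
      rw [Scheme.Hom.comp_base, TopCat.coe_comp]
      rw [show Set.range (⇑v.base ∘ ⇑I.subschemeι.base) = Subtype.val '' (C : Set Z) from hrr]
      exact hCc
    haveI : IsProper p := hp
    rw [← hvp, ← Category.assoc]
    infer_instance

end GrothLib.Lichtenbaum22
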