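import Groth.Agent.Lib.Lichtenbaum22.Main
import Groth.Agent.Lib.RightAdj22.Shriek
import Groth.Agent.Lib.AffCompl12.Embed
import Groth.Agent.Lib.CMReg.NegGrowth
import Groth.Agent.Lib.CMReg.StructureMain
import Groth.Agent.Lib.DepthExt20.Basic
import Groth.Agent.Lib.ConnDim.Basic
import Groth.Agent.Lib.FittSheaf.Pullback

/-! # A proper scheme has top cohomology in the degree of its dimension -/

set_option autoImplicit false
set_option backward.isDefEq.respectTransparency false
set_option linter.style.haveILetI false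
set_option maxHeartbeats 1000000
universe u

open CategoryTheory CategoryTheory.Limits AlgebraicGeometry TopologicalSpace Opposite

attribute [local instance] HasDerivedCategory.standard

noncomputable section

namespace GrothLib.Lichtenbaum22

open GrothLib.OX GrothLib.RightAdj22

variable {k : Type u} [Field k]

/-- The field in degree zero, as a bounded below object. -/
def Wk (k : Type u) [Field k] : BQ (Spec (CommRingCat.of k)) :=
  ⟨⟨DCoh.inD _ (Coh.structureModule (Spec (CommRingCat.of k))),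
    KSix19.RpushAmp.isQCohD_inD _ (inferInstanceAs (Coh.structureModule (Spec (CommRingCat.of k))).IsQuasicoherent)⟩,
   ⟨0, inferInstanceAs (((DerivedCategory.singleFunctor (Spec (CommRingCat.of k)).Modules 0).obj _).IsGE 0)⟩⟩

/-- The dualizing sheaf in degree `d` of a proper scheme over a field. -/
def omega {Y : Scheme.{u}} (p : Y ⟶ Spec (CommRingCat.of k)) [IsProper p] (d : ℕ) : Y.Modules :=
  DCoh.HD (((aQ p).obj (Wk k).obj).obj) ((0 : ℤ) - d)

theorem exists_omega_pair (Y : Scheme.{u}) [Y.Over (Spec (CommRingCat.of k))]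
    [IsProper (Y ↘ Spec (CommRingCat.of k))] (d : ℕ) (hd : topologicalKrullDim Y ≤ (d : WithBot ℕ∞)) :
    Coh.IsCoh (omega (Y ↘ Spec (CommRingCat.of k)) d) ∧
      ∃ t : Coh.HH Y (omega (Y ↘ Spec (CommRingCat.of k)) d) d →ₗ[k] k,
      ∀ F : Y.Modules, Coh.IsQCoh F → ∀ ψ : Coh.HH Y F d →ₗ[k] k,
        ∃! φ : F ⟶ omega (Y ↘ Spec (CommRingCat.of k)) d,
          ∀ x, ψ x = t (Sheaf.H.map ((SheafOfModules.toSheaf Y.ringCatSheaf).map φ) d x) := by
  let f := Y ↘ Spec (CommRingCat.of k)
  let S : Scheme.{u} := Spec (CommRingCat.of k)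
  haveI : CompactSpace Y := QuasiCompact.compactSpace_of_compactSpace f
  haveI : QuasiSeparatedSpace Y := quasiSeparatedSpace_of_quasiSeparated f
  haveI : DCoh.HasRpush f := KInj.hasRightDerivedFunctor _
  have hf : DCoh.RpushPreservesQCoh f := fun K hK =>
    GrothLib.KSix19.BettiExact.isQCohD_of_iso' ((rpushIsoRres f).app K).symm (isQCohD_Rres f K hK)
  let adj := (aQAdj f).ofNatIsoLeft (rpushQIso f hf).symm
  haveI : (Wk k).obj.obj.IsGE 0 := inferInstanceAs (((DerivedCategory.singleFunctor S.Modules 0).obj _).IsGE 0)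
  refine ⟨isCohD_adjoint f hf adj (Wk k).obj 0 (isCohD_inD (HomSh.isCoh_structureModule S)) _, ?_⟩
  obtain ⟨t, ht⟩ := exists_topPair f hf adj (Wk k).obj 0 d (fun M hM q hq => isZero_Rpush_of_fibreDim f d
      (fun s => ((f.fiberι s).isEmbedding.isInducing.topologicalKrullDim_le).trans hd) M hM q hq) (ModuleCat.of k k)
    ((moduleSpecΓFunctor (R := CommRingCat.of k)).mapIso
      ((DerivedCategory.singleFunctorCompHomologyFunctorIso S.Modules 0).app (Coh.structureModule S)) ≪≫
      gammaStructureIso (CommRingCat.of k))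
  exact ⟨t, ht⟩

/-- The dualizing sheaves of two compactifications agree on the open. -/
theorem nonempty_omega_iso {U Y P : Scheme.{u}} (j : U ⟶ Y) (p : Y ⟶ Spec (CommRingCat.of k)) (v : U ⟶ P)
    (q : P ⟶ Spec (CommRingCat.of k)) [IsOpenImmersion j] [IsOpenImmersion v] [IsProper p] [IsProper q]
    (h : j ≫ p = v ≫ q) (d : ℕ) : Nonempty ((omega p d).restrict j ≅ (omega q d).restrict v) := by
  obtain ⟨e⟩ := nonempty_shB_indep j p v q h
  exact ⟨(HDResIso j _ _).symm ≪≫
    (DerivedCategory.homologyFunctor U.Modules ((0 : ℤ) - d)).mapIso ((BQι U).mapIso (e.app (Wk k))) ≪≫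
    HDResIso v _ _⟩

/-- A map vanishing on a dense open of an irreducible scheme is zero on top cohomology. -/
theorem hmap_eq_zero_of_open {X : Scheme.{u}} [IsNoetherian X] [IrreducibleSpace X] (d : ℕ)
    (hd : topologicalKrullDim X = (d : WithBot ℕ∞)) (V : X.Opens) (hV : (V : Set X).Nonempty) {M N : X.Modules}
    (φ : M ⟶ N) (h0 : ∀ x ∈ V, ∀ s, QCoh.stalkLin φ x s = 0) (ξ : Coh.HH X M d) :
    Sheaf.H.map ((SheafOfModules.toSheaf X.ringCatSheaf).map φ) d ξ = 0 := by
  refine hmap_eq_zero φ (V : Set X)ᶜ V.2.isClosed_compl d ?_ (fun x hx s => h0 x (not_not.1 hx) s) ξ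
  have hu : topologicalKrullDim (Set.univ : Set X) = (d : WithBot ℕ∞) := by
    rw [← hd]
    exact IsHomeomorph.topologicalKrullDim_eq _ (Homeomorph.Set.univ X).isHomeomorph
  have h1 := ConnDim.dim_lt (Set.subset_univ (V : Set X)ᶜ) (fun h => ?_) V.2.isClosed_compl isClosed_univ
    (IrreducibleSpace.isIrreducible_univ X) (by rw [hu]; exact WithBot.coe_lt_coe.2 (ENat.coe_lt_top d))
  · rwa [hu] at h1
  · obtain ⟨x, hx⟩ := hV
    exact (h.ge (Set.mem_univ x)) hx

theorem hmap_zero {X : Scheme.{u}} {M N : X.Modules} (d : ℕ) (ξ : Coh.HH X M d) :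
    Sheaf.H.map ((SheafOfModules.toSheaf X.ringCatSheaf).map (0 : M ⟶ N)) d ξ = 0 := by
  have h := Sheaf.H.map_add_apply (n := d) (0 : Coh.toAb M ⟶ Coh.toAb N) 0 ξ
  rw [add_zero] at h
  rw [Functor.map_zero]
  exact left_eq_add.1 h

/-- The projective case. -/
theorem exists_qcoh_nontrivial_proj {N : ℕ} {P : Scheme.{u}} (ι : P ⟶ CohB1.ProjSpace N k) [IsClosedImmersion ι]
    (d : ℕ) (hd : 1 ≤ d) (hP : topologicalKrullDim P = (d : WithBot ℕ∞)) :
    ∃ M : P.Modules, M.IsQuasicoherent ∧ Nontrivial (Coh.HH P M d) := by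
  haveI : IsProper (CohB1.ProjSpace N k ↘ Spec (CommRingCat.of k)) := Chow.isProper_toSpec N k
  haveI : IsLocallyNoetherian (CohB1.ProjSpace N k) :=
    LocallyOfFiniteType.isLocallyNoetherian (CohB1.ProjSpace N k ↘ Spec (CommRingCat.of k))
  have hcoh : Coh.IsCoh (QCoh.pushUnit ι) := QCoh.pushUnit_isCoh ι
  have hs : CohB1.support (QCoh.pushUnit ι) = Set.range ι :=
    (QCoh.support_pushforward_subset_range ι _).antisymm (by
      rintro _ ⟨z, rfl⟩
      exact DepthExt20.mem_support_pushUnit ι z)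
  obtain ⟨m, hm⟩ := CMReg.exists_nontrivial_top hcoh d hd (by
    rw [hs, ← IsHomeomorph.topologicalKrullDim_eq _ ι.isEmbedding.toHomeomorph.isHomeomorph]
    exact hP)
  obtain ⟨e⟩ := CMReg.nonempty_tensorMod_push ι (Twist.twistProjSpace N k m) (Euler.isFinLocFree_of_isInvertible (CMReg.isInvertible_twist m))
  let M : P.Modules := (Scheme.Modules.pullback ι).obj (Twist.twistProjSpace N k m)
  haveI : (Twist.twistProjSpace N k m).IsQuasicoherent := (Euler.isCoh_of_isInvertible (CMReg.isInvertible_twist m)).1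
  haveI hq : M.IsQuasicoherent := FittSheaf.isQuasicoherent_pullback ι _
  obtain ⟨g⟩ := Cohom.nonempty_HH_equiv_pushforward ι M d
  obtain ⟨g'⟩ : Nonempty (Coh.HH (CohB1.ProjSpace N k) (CMReg.Ft (QCoh.pushUnit ι) m) d ≃
      Coh.HH (CohB1.ProjSpace N k) ((Scheme.Modules.pushforward ι).obj M) d) :=
    ⟨(((Sheaf.functorH _ d).mapIso ((SheafOfModules.toSheaf _).mapIso e)).addCommGroupIsoToAddEquiv).toEquiv⟩
  haveI := hm
  haveI : Nontrivial (Coh.HH (CohB1.ProjSpace N k) ((Scheme.Modules.pushforward ι).obj M) d) := g'.symm.nontrivial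
  exact ⟨M, hq, g.toEquiv.nontrivial⟩

/-- **Nonvanishing in the degree of the dimension.** -/
theorem exists_nontrivial_HH_top (Y : Scheme.{u}) [Y.Over (Spec (CommRingCat.of k))]
    [IsProper (Y ↘ Spec (CommRingCat.of k))] [IrreducibleSpace Y] (d : ℕ)
    (hY : topologicalKrullDim Y = (d : WithBot ℕ∞)) :
    ∃ G : Y.Modules, Coh.IsCoh G ∧ Nontrivial (Coh.HH Y G d) := by
  let p := Y ↘ Spec (CommRingCat.of k)
  haveI : IsLocallyNoetherian Y := LocallyOfFiniteType.isLocallyNoetherian p
  haveI : CompactSpace Y := QuasiCompact.compactSpace_of_compactSpace p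
  haveI : IsNoetherian Y := {}
  rcases Nat.eq_zero_or_pos d with rfl | hd
  · haveI : Nonempty Y := inferInstance
    refine ⟨Coh.structureModule Y, HomSh.isCoh_structureModule Y, ?_⟩
    haveI : Nontrivial Γ(Y, ⊤) := by
      haveI : Nonempty (⊤ : Y.Opens) := ⟨⟨Classical.arbitrary Y, trivial⟩⟩
      infer_instance
    exact (ProjCoh.H0top (Coh.structureModule Y)).toEquiv.nontrivial (β := Γ(Y, ⊤))
  let y := Classical.arbitrary Y
  obtain ⟨V, hV, hyV, -⟩ := exists_isAffineOpen_mem_and_subset (TopologicalSpace.Opens.mem_top y)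
  haveI : IsAffine V.toScheme := hV
  obtain ⟨N, g, hg, hgf, -⟩ := AffCompl12.exists_immersion_chart (V.ι ≫ p)
  haveI := hg
  haveI : IsProper (CohB1.ProjSpace N k ↘ Spec (CommRingCat.of k)) := Chow.isProper_toSpec N k
  haveI : IsLocallyNoetherian (CohB1.ProjSpace N k) :=
    LocallyOfFiniteType.isLocallyNoetherian (CohB1.ProjSpace N k ↘ Spec (CommRingCat.of k))
  haveI : QuasiCompact g := inferInstance
  let P := g.image
  let v : V.toScheme ⟶ P := g.toImage
  let q : P ⟶ Spec (CommRingCat.of k) := g.imageι ≫ (CohB1.ProjSpace N k ↘ Spec (CommRingCat.of k))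
  letI : P.Over (Spec (CommRingCat.of k)) := ⟨q⟩
  haveI : IsProper (P ↘ Spec (CommRingCat.of k)) := inferInstanceAs (IsProper (g.imageι ≫ _))
  haveI : IsProper q := inferInstanceAs (IsProper (g.imageι ≫ _))
  haveI : IsLocallyNoetherian P := LocallyOfFiniteType.isLocallyNoetherian q
  haveI : CompactSpace P := QuasiCompact.compactSpace_of_compactSpace q
  haveI : IsNoetherian P := {}
  haveI : Nonempty V.toScheme := ⟨⟨y, hyV⟩⟩
  haveI : IrreducibleSpace V.toScheme := by
    haveI : PreirreducibleSpace V := Subtype.preirreducibleSpace ((PreirreducibleSpace.isPreirreducible_univ (X := Y)).open_subset V.2 (Set.subset_univ _))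
    exact { toNonempty := inferInstance }
  have hVd : topologicalKrullDim V.toScheme = (d : WithBot ℕ∞) := by
    rw [← hY]
    exact DimFin29.topologicalKrullDim_dense p (U := V) (V.2.dense ⟨y, hyV⟩)
  have hdense : DenseRange v := v.denseRange
  haveI : IrreducibleSpace P := by
    have h2 := (IrreducibleSpace.isIrreducible_univ V.toScheme).image v v.continuous.continuousOn
    rw [Set.image_univ] at h2
    have h3 : IsIrreducible (Set.univ : Set P) := by
      rw [← hdense.closure_range]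
      exact h2.closure
    exact (irreducibleSpace_def _).2 h3
  have hPd : topologicalKrullDim P = (d : WithBot ℕ∞) := by
    rw [← DimFin29.topologicalKrullDim_dense q (U := v.opensRange) hdense]
    exact (IsHomeomorph.topologicalKrullDim_eq _ v.isOpenEmbedding.isEmbedding.toHomeomorph.isHomeomorph).symm.trans hVd
  obtain ⟨M, hMq, hM⟩ := exists_qcoh_nontrivial_proj g.imageι d hd hPd
  obtain ⟨-, tP, htP⟩ := exists_omega_pair (k := k) P d hPd.le
  obtain ⟨ξ, hξ⟩ := exists_ne (0 : Coh.HH P M d)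
  obtain ⟨ψ, hψ⟩ : ∃ ψ : Coh.HH P M d →ₗ[k] k, ψ ξ ≠ 0 :=
    not_forall.1 fun h => hξ ((Module.forall_dual_apply_eq_zero_iff k ξ).1 h)
  obtain ⟨φ, hφ, -⟩ := htP M hMq ψ
  obtain ⟨hcY, tY, htY⟩ := exists_omega_pair (k := k) Y d hY.le
  refine ⟨omega p d, hcY, ?_⟩
  by_contra hn
  rw [not_nontrivial_iff_subsingleton] at hn
  haveI := hcY.1
  have hid : 𝟙 (omega p d) = 0 := by
    refine (htY (omega p d) hcY.1 0).unique (fun x => ?_) (fun x => ?_)
    · rw [Subsingleton.elim (α := Coh.HH Y (omega p d) d) (Sheaf.H.map _ d x) 0, map_zero, LinearMap.zero_apply]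
    · rw [Subsingleton.elim (α := Coh.HH Y (omega p d) d) (Sheaf.H.map _ d x) 0, map_zero, LinearMap.zero_apply]
  have hzero : IsZero (omega p d) := (IsZero.iff_id_eq_zero _).2 hid
  obtain ⟨eω⟩ := nonempty_omega_iso V.ι p v q
    (by rw [← hgf]; show g ≫ _ = g.toImage ≫ g.imageι ≫ _; rw [Scheme.Hom.toImage_imageι_assoc]; rfl) d
  have hres : IsZero ((omega q d).restrict v) :=
    ((Scheme.Modules.restrictFunctor V.ι).map_isZero hzero).of_iso eω.symm
  refine hψ ?_
  rw [hφ ξ, hmap_eq_zero_of_open d hPd v.opensRange ⟨v ⟨y, hyV⟩, _, rfl⟩ φ (fun x hx s => ?_) ξ, map_zero]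
  have hnot := support_subset_of_isZero_restrict v (M := omega q d) hres
  by_contra hne
  exact hnot (show x ∈ CohB1.support (omega q d) from fun hs => hne (@Subsingleton.elim _ hs _ _)) hx

end GrothLib.Lichtenbaum22
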