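import Groth.Agent.Lib.RightAdj22.TopRepApps
import Groth.Agent.Lib.GVanish.Support
import Groth.Agent.Lib.QCoh.GenericPoint
import Groth.Agent.Lib.Cohom.AffineSections
import Groth.Agent.Lib.QCoh.FT
import Groth.Agent.Lib.Cohom.Compare

/-! # Maps vanishing outside a small closed subset are zero on top cohomology -/

set_option autoImplicit false
set_option backward.isDefEq.respectTransparency false
universe u

open CategoryTheory CategoryTheory.Limits AlgebraicGeometry TopologicalSpace Opposite

noncomputable section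

namespace GrothLib.Lichtenbaum22

variable {X : Scheme.{u}}

theorem le_of_lt_succ {a : WithBot ℕ∞} {d : ℕ} (h : a < ((d + 1 : ℕ) : WithBot ℕ∞)) : a ≤ (d : WithBot ℕ∞) := by
  induction a with
  | bot => exact bot_le
  | coe a =>
    have h' : a < ((d + 1 : ℕ) : ℕ∞) := WithBot.coe_lt_coe.1 h
    rw [Nat.cast_add_one] at h'
    exact WithBot.coe_le_coe.2 (ENat.lt_natCast_add_one_iff.1 h')

/-- A map with zero stalk maps outside a closed subset of dimension `< d` is zero on `H^d`. -/
theorem hmap_eq_zero [NoetherianSpace X] {M N : X.Modules} (φ : M ⟶ N) (Z : Set X) (hZ : IsClosed Z) (d : ℕ)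
    (hd : topologicalKrullDim Z < (d : WithBot ℕ∞)) (h0 : ∀ x ∉ Z, ∀ s, QCoh.stalkLin φ x s = 0)
    (ξ : Coh.HH X M d) : Sheaf.H.map ((SheafOfModules.toSheaf X.ringCatSheaf).map φ) d ξ = 0 := by
  obtain ⟨G, e, he, m, hm, hem⟩ : ∃ (G : X.Modules) (e : M ⟶ G) (_ : Epi e) (m : G ⟶ N) (_ : Mono m), e ≫ m = φ :=
    ⟨Abelian.image φ, Abelian.factorThruImage φ, inferInstance, Abelian.image.ι φ, inferInstance, Abelian.image.fac φ⟩
  haveI := he
  haveI := hm
  have hstalk : ∀ x ∉ Z, Subsingleton (G.presheaf.stalk x) := fun x hx => by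
    refine subsingleton_of_forall_eq 0 fun g => ?_
    have hs : Function.Surjective (QCoh.stalkLin e x) :=
      (ModuleCat.epi_iff_surjective _).1 ((OX.epi_iff e).1 he x)
    obtain ⟨s, rfl⟩ := hs g
    apply QCoh.stalkLin_injective m x
    rw [map_zero, ← QCoh.stalkLin_comp, hem]
    exact h0 x hx s
  rw [← hem, Functor.map_comp, Sheaf.H.map_comp_apply]
  suffices hsub : Subsingleton (Coh.HH X G d) by
    rw [Subsingleton.elim (Sheaf.H.map ((SheafOfModules.toSheaf X.ringCatSheaf).map e) d ξ) 0]
    exact map_zero _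
  let Zt : TopCat.{u} := TopCat.of Z
  haveI : NoetherianSpace Zt := (Topology.IsEmbedding.subtypeVal (p := fun x => x ∈ Z)).isInducing.noetherianSpace
  rcases d with _ | d
  · haveI hem' : IsEmpty Z := by
      refine ⟨fun z => ?_⟩
      haveI : Nonempty (IrreducibleCloseds Z) :=
        ⟨⟨_, (irreducibleComponent_mem_irreducibleComponents z).1, isClosed_irreducibleComponent⟩⟩
      exact absurd hd (not_lt.2 Order.krullDim_nonneg)
    have hG : IsZero G := by
      rw [IsZero.iff_id_eq_zero]
      haveI hall : ∀ x : X, IsIso ((OX.stalk x).map (0 : G ⟶ G)) := fun x => by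
        haveI := hstalk x (fun h => hem'.elim ⟨x, h⟩)
        refine (ConcreteCategory.isIso_iff_bijective _).2 ⟨fun a b _ => ?_, fun b => ⟨0, ?_⟩⟩
        · exact Subsingleton.elim (α := G.presheaf.stalk x) _ _
        · exact Subsingleton.elim (α := G.presheaf.stalk x) _ _
      haveI := (OX.isIso_iff (0 : G ⟶ G)).2 hall
      exact (isIsoZeroSelfEquiv G).toFun inferInstance
    have hz := (SheafOfModules.toSheaf X.ringCatSheaf).map_isZero hG
    exact Sheaf.subsingleton_H_of_isZero hz 0
  · refine GVanish.subsingleton_H_of_closedEmbedding (Z := Zt) (X := (X : TopCat.{u})) (TopCat.ofHom ⟨Subtype.val, continuous_subtype_val⟩)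
      hZ.isClosedEmbedding_subtypeVal d ?_ (Coh.toAb G) (fun x hx => ?_) (d + 1) (Nat.lt_succ_self d)
    · exact le_of_lt_succ hd
    · haveI := hstalk x (fun h => hx ⟨⟨x, h⟩, rfl⟩)
      exact AddCommGrpCat.isZero_of_subsingleton (G.presheaf.stalk x)

end GrothLib.Lichtenbaum22
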