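import Groth.Agent.Lib.Lichtenbaum22.Support
import Groth.Agent.Lib.QCoh.Qcqs
import Groth.Agent.Lib.QCoh.Coherent

/-! # Vanishing of top cohomology of opens whose boundary meets every top dimensional closed subset -/

set_option autoImplicit false
set_option backward.isDefEq.respectTransparency false
set_option linter.style.haveILetI false
universe u

open CategoryTheory CategoryTheory.Limits AlgebraicGeometry TopologicalSpace Opposite

noncomputable section

namespace GrothLib.Lichtenbaum22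

variable {U X : Scheme.{u}}

/-- A map from a direct image from an affine open into a coherent module vanishes near the boundary. -/
theorem exists_nhds_zero [IsLocallyNoetherian X] (v : U ⟶ X) [IsOpenImmersion v] [IsAffineHom v] (F : U.Modules)
    [F.IsQuasicoherent] {ω : X.Modules} (hω : Coh.IsCoh ω) (φ : (Scheme.Modules.pushforward v).obj F ⟶ ω)
    (x : X) (W : X.affineOpens) (hxW : x ∈ W.1) (f : Γ(X, W.1))
    (hf : (X.basicOpen f : Set X) = (W.1 : Set X) ∩ Set.range v) (hx : x ∉ Set.range v) :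
    ∃ O : X.Opens, x ∈ O ∧ ∀ y ∈ O, ∀ s, QCoh.stalkLin φ y s = 0 := by
  haveI := hω.1
  haveI : ((Scheme.Modules.pushforward v).obj F).IsQuasicoherent := QCoh.isQuasicoherent_pushforward v F
  haveI : IsNoetherianRing Γ(X, W.1) := IsLocallyNoetherian.component_noetherian W
  haveI : Module.Finite Γ(X, W.1) Γ(ω, W.1) := QCoh.moduleFinite_of_isFiniteType ω hω.2 W.2
  haveI : IsNoetherian Γ(X, W.1) Γ(ω, W.1) := isNoetherian_of_isNoetherianRing_of_finite _ _
  let M := (Scheme.Modules.pushforward v).obj F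
  have hu : IsUnit (v.app W.1 f) := by
    have hb : U.basicOpen (v.app W.1 f) = v ⁻¹ᵁ W.1 := by
      rw [← Scheme.preimage_basicOpen]
      ext y
      show v y ∈ (X.basicOpen f : Set X) ↔ v y ∈ (W.1 : Set X)
      rw [hf]
      exact ⟨fun h => h.1, fun h => ⟨h, y, rfl⟩⟩
    have h := U.toRingedSpace.isUnit_of_isUnit_germ (v ⁻¹ᵁ W.1) (v.app W.1 f) fun y hy =>
      (U.mem_basicOpen (v.app W.1 f) y hy).1 (by rw [hb]; exact hy)
    exact h
  let L := QCoh.appLinear φ W.1
  have hP : (LinearMap.range L) ≤ (Ideal.span {f}) • LinearMap.range L := by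
    rintro _ ⟨s, rfl⟩
    obtain ⟨c, hc⟩ := hu.exists_left_inv
    let s' : Γ(M, W.1) := (c • (show Γ(F, v ⁻¹ᵁ W.1) from s) : Γ(F, v ⁻¹ᵁ W.1))
    have hs : f • s' = s := by
      show (v.app W.1 f) • (c • (show Γ(F, v ⁻¹ᵁ W.1) from s)) = (show Γ(F, v ⁻¹ᵁ W.1) from s)
      rw [smul_smul, mul_comm, hc, one_smul]
    rw [← hs, map_smul]
    exact Submodule.smul_mem_smul (Ideal.mem_span_singleton_self f) ⟨s', rfl⟩
  obtain ⟨r, hr, hr0⟩ := Submodule.exists_sub_one_mem_and_smul_eq_zero_of_fg_of_le_smul (Ideal.span {f})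
    (LinearMap.range L) (IsNoetherian.noetherian _) hP
  have hkill : ∀ s : Γ(M, W.1), r • φ.app W.1 s = 0 := fun s => hr0 _ ⟨s, rfl⟩
  refine ⟨X.basicOpen r, ?_, fun y hy => ?_⟩
  · by_contra hxr
    rw [X.mem_basicOpen r x hxW] at hxr
    obtain ⟨c, hc⟩ := Ideal.mem_span_singleton.1 hr
    have hfx : ¬ IsUnit (X.presheaf.germ W.1 x hxW f) := by
      rw [← X.mem_basicOpen f x hxW]
      intro h
      exact hx ((Set.ext_iff.1 hf x).1 h).2
    have hsum : X.presheaf.germ W.1 x hxW r + -(X.presheaf.germ W.1 x hxW f * X.presheaf.germ W.1 x hxW c) = 1 := by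
      rw [← map_mul, ← map_neg, ← map_add, ← hc, show r + -(r - 1) = 1 by ring, map_one]
    rcases IsLocalRing.isUnit_or_isUnit_of_add_one hsum with h | h
    · exact hxr h
    · exact hfx (isUnit_of_mul_isUnit_left (IsUnit.neg_iff _ |>.1 h))
  have hloc : ∀ g : Γ(X, W.1), X.basicOpen g ≤ X.basicOpen r → ∀ s : Γ(M, X.basicOpen g),
      φ.app (X.basicOpen g) s = 0 := by
    intro g hgr s
    obtain ⟨n, t, ht⟩ := Cohom.exists_pow_smul_eq_map W.2 M g s
    have hgu : IsUnit ((X.presheaf.map (homOfLE (X.basicOpen_le g)).op g) ^ n) :=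
      (RingedSpace.isUnit_res_basicOpen X.toRingedSpace g).pow n
    have hru : IsUnit (X.presheaf.map (homOfLE (X.basicOpen_le g)).op r) := by
      rw [← Cohom.ringMap_map_apply (homOfLE (X.basicOpen_le r)) (homOfLE hgr) r]
      exact (RingedSpace.isUnit_res_basicOpen X.toRingedSpace r).map _
    have h1 : φ.app (X.basicOpen g) (M.presheaf.map (homOfLE (X.basicOpen_le g)).op t) = 0 := by
      have hnat : φ.app (X.basicOpen g) (M.presheaf.map (homOfLE (X.basicOpen_le g)).op t) =
          ω.presheaf.map (homOfLE (X.basicOpen_le g)).op (φ.app W.1 t) :=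
        (PresheafOfModules.naturality_apply φ.val (homOfLE (X.basicOpen_le g)).op t)
      rw [hnat]
      refine (hru.smul_eq_zero).1 ?_
      rw [← Scheme.Modules.map_smul, hkill, map_zero]
    rw [ht, Scheme.Modules.Hom.app_smul] at h1
    exact (hgu.smul_eq_zero).1 h1
  intro s
  obtain ⟨V, hyV, a, rfl⟩ := TopCat.Presheaf.exists_germ_eq M.presheaf s
  have hyW : y ∈ W.1 := X.basicOpen_le r hy
  obtain ⟨g, hg, hyg⟩ := W.2.exists_basicOpen_le ⟨y, ⟨hyV, hy⟩⟩ hyW (V := V ⊓ X.basicOpen r)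
  rw [← TopCat.Presheaf.germ_res_apply M.presheaf (homOfLE (hg.trans inf_le_left)) y hyg a, QCoh.stalkLin_germ,
    hloc g (hg.trans inf_le_right), map_zero]

/-- **Vanishing of top cohomology.** -/
theorem subsingleton_HH_top {k : Type u} [Field k] [X.Over (Spec (CommRingCat.of k))]
    [IsProper (X ↘ Spec (CommRingCat.of k))] (v : U ⟶ X) [IsOpenImmersion v] [IsAffineHom v] (d : ℕ)
    (hX : topologicalKrullDim X ≤ (d : WithBot ℕ∞))
    (hloc : ∀ x ∉ Set.range v, ∃ (W : X.affineOpens) (f : Γ(X, W.1)), x ∈ W.1 ∧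
      (X.basicOpen f : Set X) = (W.1 : Set X) ∩ Set.range v)
    (hZ : ∀ Z : Set X, IsClosed Z → Z ⊆ Set.range v → topologicalKrullDim Z < (d : WithBot ℕ∞))
    (F : U.Modules) [F.IsQuasicoherent] : Subsingleton (Coh.HH U F d) := by
  let p := X ↘ Spec (CommRingCat.of k)
  haveI : IsLocallyNoetherian X := LocallyOfFiniteType.isLocallyNoetherian p
  haveI : CompactSpace X := QuasiCompact.compactSpace_of_compactSpace p
  haveI : IsNoetherian X := {}
  haveI : ((Scheme.Modules.pushforward v).obj F).IsQuasicoherent := QCoh.isQuasicoherent_pushforward v F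
  obtain ⟨e⟩ := Cohom.nonempty_HH_equiv_pushforward v F d
  suffices h : Subsingleton (Coh.HH X ((Scheme.Modules.pushforward v).obj F) d) from e.toEquiv.subsingleton
  obtain ⟨ω, -, hcoh, t, ht⟩ := RightAdj22.exists_pair_affine (A := k) X d fun M hM q hq =>
    RightAdj22.isZero_Rpush_of_fibreDim p d (fun s => ((p.fiberι s).isEmbedding.isInducing.topologicalKrullDim_le).trans hX)
      M hM q hq
  have hω : Coh.IsCoh ω := hcoh inferInstance
  refine subsingleton_of_forall_eq 0 fun ξ => (Module.forall_dual_apply_eq_zero_iff k ξ).1 fun ψ => ?_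
  obtain ⟨φ, hφ, -⟩ := ht _ inferInstance ψ
  let Z : Set X := closure {x | ∃ s, QCoh.stalkLin φ x s ≠ 0}
  have hZr : Z ⊆ Set.range v := by
    intro x hxZ
    by_contra hx
    obtain ⟨W, f, hxW, hf⟩ := hloc x hx
    obtain ⟨O, hxO, hO⟩ := exists_nhds_zero v F hω φ x W hxW f hf hx
    obtain ⟨y, hyO, s, hs⟩ := mem_closure_iff.1 hxZ O O.2 hxO
    exact hs (hO y hyO s)
  rw [hφ, hmap_eq_zero φ Z isClosed_closure d (hZ Z isClosed_closure hZr) (fun x hx s => by
    by_contra hs
    exact hx (subset_closure ⟨s, hs⟩)) ξ, map_zero]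

end GrothLib.Lichtenbaum22
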